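import Mathlib

/-!
Localizations of products of domains at prime ideals.
-/

set_option autoImplicit false

universe u

namespace Groth.Agent.ProdDom

variable {ι : Type u} (R : ι → Type u) [∀ i, CommRing (R i)] (P : Ideal (∀ i, R i)) [P.IsPrime]

open scoped Classical in
/-- The idempotent of a set of indices. -/
noncomputable def ind (A : Set ι) : ∀ i, R i := fun i => if i ∈ A then 1 else 0

theorem ind_notMem_or (A : Set ι) : ind R A ∉ P ∨ ind R Aᶜ ∉ P := by
  classical
  by_contra h
  push_neg at h
  refine ‹P.IsPrime›.ne_top ((Ideal.eq_top_iff_one P).2 ?_)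
  convert! P.add_mem h.1 h.2
  funext i
  by_cases hi : i ∈ A <;> simp [ind, hi]

theorem mul_eq_of_eq {A : Set ι} {x y : ∀ i, R i} (h : ∀ i ∈ A, x i = y i) :
    ind R A * x = ind R A * y := by
  classical
  funext i
  by_cases hi : i ∈ A <;> simp [ind, hi, h]

theorem algebraMap_eq {A : Set ι} (hA : ind R A ∉ P) {x y : ∀ i, R i} (h : ∀ i ∈ A, x i = y i) :
    algebraMap _ (Localization.AtPrime P) x = algebraMap _ (Localization.AtPrime P) y :=
  (IsLocalization.eq_iff_exists P.primeCompl _).2 ⟨⟨_, hA⟩, mul_eq_of_eq R h⟩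

theorem exists_of_algebraMap_eq_zero {x : ∀ i, R i} [∀ i, IsDomain (R i)]
    (h : algebraMap _ (Localization.AtPrime P) x = 0) : ind R {i | x i = 0} ∉ P := by
  classical
  obtain ⟨⟨c, hc⟩, hcx⟩ := (IsLocalization.map_eq_zero_iff P.primeCompl _ _).1 h
  intro hmem
  refine hc ?_
  have : c = ind R {i | x i = 0} * c := funext fun i => by
    by_cases hi : x i = 0
    · simp [ind, hi]
    · have : c i * x i = 0 := congrFun hcx i
      simp [(mul_eq_zero.1 this).resolve_right hi]
  rw [this]
  exact P.mul_mem_right _ hmem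

theorem isDomain [∀ i, IsDomain (R i)] : IsDomain (Localization.AtPrime P) := by
  classical
  haveI : Nontrivial (Localization.AtPrime P) := inferInstance
  suffices h : NoZeroDivisors (Localization.AtPrime P) from NoZeroDivisors.to_isDomain _
  refine ⟨fun {a b} hab => ?_⟩
  obtain ⟨⟨x, s⟩, rfl⟩ := IsLocalization.mk'_surjective P.primeCompl a |>.imp fun z h => h
  obtain ⟨⟨y, t⟩, rfl⟩ := IsLocalization.mk'_surjective P.primeCompl b |>.imp fun z h => h
  rw [← IsLocalization.mk'_mul, IsLocalization.mk'_eq_zero_iff] at hab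
  have h0 : algebraMap _ (Localization.AtPrime P) (x * y) = 0 :=
    (IsLocalization.map_eq_zero_iff P.primeCompl _ _).2 hab
  have hA := exists_of_algebraMap_eq_zero R P h0
  rcases ind_notMem_or R P {i | x i = 0} with h | h
  · exact Or.inl (by rw [IsLocalization.mk'_eq_zero_iff, ← IsLocalization.map_eq_zero_iff P.primeCompl
      (Localization.AtPrime P), algebraMap_eq R P h (y := 0) (fun i hi => hi), map_zero])
  · refine Or.inr ?_
    rw [IsLocalization.mk'_eq_zero_iff, ← IsLocalization.map_eq_zero_iff P.primeCompl (Localization.AtPrime P)]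
    have hAB : ind R ({i | (x * y) i = 0} ∩ {i | x i = 0}ᶜ) ∉ P := fun hm => by
      refine (‹P.IsPrime›.mem_or_mem (show ind R {i | (x * y) i = 0} * ind R {i | x i = 0}ᶜ ∈ P from ?_)).elim hA h
      convert! hm
      funext i
      by_cases h1 : (x * y) i = 0 <;> by_cases h2 : x i = 0 <;> simp_all [ind]
    rw [algebraMap_eq R P hAB (y := 0) (fun i hi => (mul_eq_zero.1 (hi.1 : x i * y i = 0)).resolve_left hi.2), map_zero]

theorem preValuationRing [∀ i, IsDomain (R i)] [∀ i, ValuationRing (R i)] :
    PreValuationRing (Localization.AtPrime P) := by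
  classical
  refine ⟨fun a b => ?_⟩
  obtain ⟨⟨x, s⟩, rfl⟩ := IsLocalization.mk'_surjective P.primeCompl a |>.imp fun z h => h
  obtain ⟨⟨y, t⟩, rfl⟩ := IsLocalization.mk'_surjective P.primeCompl b |>.imp fun z h => h
  let A : Set ι := {i | ∃ c, x i * c = y i}
  rcases ind_notMem_or R P A with h | h
  · choose c hc using fun i : A => i.2
    refine ⟨IsLocalization.mk' _ ((s : ∀ i, R i) * fun i => if hi : i ∈ A then c ⟨i, hi⟩ else 0) t, Or.inl ?_⟩
    rw [← IsLocalization.mk'_mul, IsLocalization.mk'_eq_iff_eq]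
    refine algebraMap_eq R P h fun i hi => ?_
    simp only [Pi.mul_apply, Submonoid.coe_mul, dif_pos hi]
    linear_combination (t : ∀ i, R i) i * (s : ∀ i, R i) i * hc ⟨i, hi⟩
  · have hc' : ∀ i : (Aᶜ : Set ι), ∃ c, y i * c = x i := fun i => by
      obtain ⟨c, hc | hc⟩ := PreValuationRing.cond (x i) (y i)
      · exact absurd ⟨c, hc⟩ i.2
      · exact ⟨c, hc⟩
    choose c hc using hc'
    refine ⟨IsLocalization.mk' _ ((t : ∀ i, R i) * fun i => if hi : i ∈ Aᶜ then c ⟨i, hi⟩ else 0) s, Or.inr ?_⟩
    rw [← IsLocalization.mk'_mul, IsLocalization.mk'_eq_iff_eq]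
    refine algebraMap_eq R P h fun i hi => ?_
    simp only [Pi.mul_apply, Submonoid.coe_mul, dif_pos hi]
    linear_combination (t : ∀ i, R i) i * (s : ∀ i, R i) i * hc ⟨i, hi⟩

theorem isIntegrallyClosed [∀ i, IsDomain (R i)] [∀ i, IsIntegrallyClosed (R i)] :
    IsIntegrallyClosed (Localization.AtPrime P) := by
  classical
  haveI := isDomain R P
  let L := Localization.AtPrime P
  let K := FractionRing L
  rw [isIntegrallyClosed_iff K]
  intro z hz
  obtain ⟨a, b, hb, rfl⟩ := IsFractionRing.div_surjective (A := L) z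
  obtain ⟨⟨x, s⟩, rfl⟩ := IsLocalization.mk'_surjective P.primeCompl a |>.imp fun z h => h
  obtain ⟨⟨y, t⟩, rfl⟩ := IsLocalization.mk'_surjective P.primeCompl b |>.imp fun z h => h
  -- clear the denominators of the coefficients
  obtain ⟨⟨m, hm⟩, hint⟩ := IsIntegral.exists_multiple_integral_of_isLocalization P.primeCompl _ hz
  obtain ⟨p, hp, he⟩ := hint
  set z := algebraMap L K (IsLocalization.mk' L x s) / algebraMap L K (IsLocalization.mk' L y t) with hzdef
  have hy0 : algebraMap L K (IsLocalization.mk' L y t) ≠ 0 :=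
    IsFractionRing.to_map_ne_zero_of_mem_nonZeroDivisors hb
  let X : ∀ i, R i := m * x * t
  let Y : ∀ i, R i := y * s
  have hXY : algebraMap _ K X = m • z * algebraMap _ K Y := by
    have e1 : algebraMap L K (IsLocalization.mk' L x s) * algebraMap _ K (s : ∀ i, R i) = algebraMap _ K x := by
      rw [IsScalarTower.algebraMap_apply (∀ i, R i) L K, ← map_mul, IsLocalization.mk'_spec,
        ← IsScalarTower.algebraMap_apply]
    have e2 : algebraMap L K (IsLocalization.mk' L y t) * algebraMap _ K (t : ∀ i, R i) = algebraMap _ K y := by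
      rw [IsScalarTower.algebraMap_apply (∀ i, R i) L K, ← map_mul, IsLocalization.mk'_spec,
        ← IsScalarTower.algebraMap_apply]
    simp only [X, Y, map_mul, Algebra.smul_def, ← e1, ← e2, hzdef]
    linear_combination (algebraMap _ K m) * (algebraMap _ K (t : ∀ i, R i)) * (algebraMap _ K (s : ∀ i, R i)) * (mul_div_cancel₀ (algebraMap L K (IsLocalization.mk' L x s)) hy0).symm
  have hev : algebraMap _ K (Polynomial.eval X (p.scaleRoots Y)) = 0 := by
    rw [← Polynomial.eval₂_at_apply, hXY, mul_comm, Polynomial.scaleRoots_eval₂_mul, show (Polynomial.eval₂ (algebraMap _ K) (m • z) p) = 0 from he, mul_zero]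
  have h1 : algebraMap _ L (Polynomial.eval X (p.scaleRoots Y)) = 0 :=
    IsFractionRing.injective L K (by rw [← IsScalarTower.algebraMap_apply, hev, map_zero])
  have hA := exists_of_algebraMap_eq_zero R P h1
  have hY : ind R {i | Y i = 0}ᶜ ∉ P := by
    refine (ind_notMem_or R P {i | Y i = 0}).resolve_left fun h => hy0 ?_
    rw [show IsLocalization.mk' L y t = 0 from ?_, map_zero]
    rw [IsLocalization.mk'_eq_zero_iff, ← IsLocalization.map_eq_zero_iff P.primeCompl L]
    have : algebraMap _ L Y = 0 := by rw [algebraMap_eq R P h (y := 0) (fun i hi => hi), map_zero]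
    rw [map_mul] at this
    exact (IsLocalization.map_units L s).mul_left_eq_zero.1 this
  let A := {i | (Polynomial.eval X (p.scaleRoots Y)) i = 0} ∩ {i | Y i = 0}ᶜ
  have hAP : ind R A ∉ P := fun hmem => by
    refine (‹P.IsPrime›.mem_or_mem (show _ * _ ∈ P from ?_)).elim hA hY
    convert! hmem
    funext i
    by_cases h1 : (Polynomial.eval X (p.scaleRoots Y)) i = 0 <;> by_cases h2 : Y i = 0 <;> simp_all [ind, A]
  have hdiv : ∀ i : A, ∃ c, Y i * c = X i := by
    rintro ⟨i, hi1, hi2⟩
    let F := FractionRing (R i)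
    have h3 : Polynomial.eval (X i) ((p.map (Pi.evalRingHom R i)).scaleRoots (Y i)) = 0 := by
      have h4 := (Polynomial.eval₂_at_apply (Pi.evalRingHom R i) X (p := p.scaleRoots Y))
      rw [show Pi.evalRingHom R i (Polynomial.eval X (p.scaleRoots Y)) = 0 from hi1, ← Polynomial.eval_map,
        Polynomial.map_scaleRoots _ _ _ (by simp [hp.leadingCoeff])] at h4
      exact h4
    have hY' : algebraMap (R i) F (Y i) ≠ 0 := by simpa using hi2
    have h5 : IsIntegral (R i) (algebraMap (R i) F (X i) / algebraMap (R i) F (Y i)) := by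
      refine ⟨p.map (Pi.evalRingHom R i), hp.map _, ?_⟩
      have h6 := congrArg (algebraMap (R i) F) h3
      rw [← Polynomial.eval₂_at_apply, map_zero, ← mul_div_cancel₀ (algebraMap (R i) F (X i)) hY',
        Polynomial.scaleRoots_eval₂_mul] at h6
      exact (mul_eq_zero.1 h6).resolve_left (pow_ne_zero _ hY')
    obtain ⟨c, hc⟩ := IsIntegrallyClosed.algebraMap_eq_of_integral h5
    refine ⟨c, IsFractionRing.injective (R i) F ?_⟩
    rw [map_mul, hc, mul_div_cancel₀ _ hY']
  choose c hc using hdiv
  let C : ∀ i, R i := fun i => if hi : i ∈ A then c ⟨i, hi⟩ else 0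
  refine ⟨IsLocalization.mk' L C ⟨m, hm⟩, ?_⟩
  have h7 : algebraMap _ K (Y * C) = algebraMap _ K X := by
    rw [IsScalarTower.algebraMap_apply (∀ i, R i) L K, IsScalarTower.algebraMap_apply (∀ i, R i) L K X]
    refine congrArg _ (algebraMap_eq R P hAP fun i hi => ?_)
    simp only [Pi.mul_apply, C, dif_pos hi]
    exact hc ⟨i, hi⟩
  have hmK : algebraMap _ K m ≠ 0 := by
    rw [IsScalarTower.algebraMap_apply (∀ i, R i) L K]
    exact fun e => (IsLocalization.map_units L (⟨m, hm⟩ : P.primeCompl)).ne_zero (IsFractionRing.injective L K (by rw [e, map_zero]))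
  have hYK : algebraMap _ K Y ≠ 0 := by
    rw [IsScalarTower.algebraMap_apply (∀ i, R i) L K]
    refine fun e => hy0 ?_
    rw [map_mul, map_mul] at e
    rcases mul_eq_zero.1 e with e' | e'
    · rw [show algebraMap L K (IsLocalization.mk' L y t) = 0 from ?_]
      refine ((IsLocalization.map_units L t).map (algebraMap L K)).mul_left_eq_zero.1 ?_
      rw [← map_mul, IsLocalization.mk'_spec, e']
    · exact absurd e' ((IsLocalization.map_units L s).map (algebraMap L K)).ne_zero
  refine mul_right_cancel₀ hmK (mul_right_cancel₀ hYK ?_)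
  rw [IsScalarTower.algebraMap_apply (∀ i, R i) L K m, ← map_mul, IsLocalization.mk'_spec,
    ← IsScalarTower.algebraMap_apply, ← map_mul, mul_comm C, h7, hXY, Algebra.smul_def,
    ← IsScalarTower.algebraMap_apply]
  ring

end Groth.Agent.ProdDom
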